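import Cfsg.Agent.Lib.Helper14.StCC.Defs

set_option autoImplicit false

/-! Steinberg's Theorem 10, part C (core): from lifts of the root elements satisfying (R1), (R2)
to a section of the central extension; generic facts on central extensions. -/

namespace Cfsg.Agent.Lib.Helper14.StCC

open Cfsg.Lie Cfsg.Agent.Lib.Helper8.Chev
open scoped commutatorElement

section Generic

theorem comm_central {E : Type*} [Group E] {x y z w : E} (hz : z ∈ Subgroup.center E)
    (hw : w ∈ Subgroup.center E) : ⁅x * z, y * w⁆ = ⁅x, y⁆ := by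
  rw [Subgroup.mem_center_iff] at hz hw
  rw [commutatorElement_def, commutatorElement_def]
  have h1 : x * z * (y * w) * (x * z)⁻¹ * (y * w)⁻¹ =
      x * (z * (y * w) * z⁻¹) * x⁻¹ * (y * w)⁻¹ := by group
  have h2 : z * (y * w) * z⁻¹ = y * w := by rw [← hz (y * w), mul_inv_cancel_right]
  have h3 : x * (y * w) * x⁻¹ * (y * w)⁻¹ = x * y * (w * x⁻¹ * w⁻¹) * y⁻¹ := by group
  have h4 : w * x⁻¹ * w⁻¹ = x⁻¹ := by rw [← hw x⁻¹, mul_inv_cancel_right]
  rw [h1, h2, h3, h4]

/-- two lifts of the same homomorphism along a central extension agree on a perfect group -/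
theorem lift_unique {Δ G₁ E : Type*} [Group Δ] [Group G₁] [Group E] (hperf : commutator Δ = ⊤)
    (π₁ : E →* G₁) (hc : π₁.ker ≤ Subgroup.center E) (τ τ' : Δ →* E)
    (h : π₁.comp τ = π₁.comp τ') : τ = τ' := by
  have key : ∀ a : Δ, ∃ z ∈ Subgroup.center E, τ' a = τ a * z := by
    intro a
    refine ⟨(τ a)⁻¹ * τ' a, hc ?_, by group⟩
    rw [MonoidHom.mem_ker, map_mul, map_inv]
    have := DFunLike.congr_fun h a
    simp only [MonoidHom.comp_apply] at this
    rw [this, inv_mul_cancel]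
  have hle : commutator Δ ≤ MonoidHom.eqLocus τ τ' := by
    rw [commutator_eq_closure, Subgroup.closure_le]
    rintro _ ⟨a, b, rfl⟩
    show τ ⁅a, b⁆ = τ' ⁅a, b⁆
    obtain ⟨z, hz, ea⟩ := key a
    obtain ⟨w, hw, eb⟩ := key b
    rw [map_commutatorElement, map_commutatorElement, ea, eb, comm_central hz hw]
  rw [hperf, top_le_iff] at hle
  ext a
  have : a ∈ MonoidHom.eqLocus τ τ' := by rw [hle]; trivial
  exact this

/-- a stem extension with a section is an isomorphism -/
theorem ker_eq_bot_of_section {Γ Γ' : Type*} [Group Γ] [Group Γ'] (ψ : Γ' →* Γ)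
    (hc : ψ.ker ≤ Subgroup.center Γ') (hs : ψ.ker ≤ commutator Γ')
    (τ : Γ →* Γ') (hτ : ψ.comp τ = MonoidHom.id _) : ψ.ker = ⊥ := by
  have hτ' : ∀ g, ψ (τ g) = g := fun g => DFunLike.congr_fun hτ g
  have key : ∀ a : Γ', ∃ z ∈ Subgroup.center Γ', a = τ (ψ a) * z := by
    intro a
    refine ⟨(τ (ψ a))⁻¹ * a, hc ?_, by group⟩
    rw [MonoidHom.mem_ker, map_mul, map_inv, hτ', inv_mul_cancel]
  have hle : commutator Γ' ≤ τ.range := by
    rw [commutator_eq_closure, Subgroup.closure_le]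
    rintro _ ⟨a, b, rfl⟩
    obtain ⟨z, hz, ea⟩ := key a
    obtain ⟨w, hw, eb⟩ := key b
    show ⁅a, b⁆ ∈ τ.range
    rw [ea, eb, comm_central hz hw, ← map_commutatorElement]
    exact ⟨_, rfl⟩
  rw [eq_bot_iff]
  intro z hz
  obtain ⟨y, rfl⟩ := hle (hs hz)
  rw [MonoidHom.mem_ker, hτ'] at hz
  rw [Subgroup.mem_bot, hz, map_one]

theorem hK2_of_hK5 {K : Type*} [Field K] (hK5 : ∃ s : Finset K, 4 < s.card) :
    ∃ x : K, x ≠ 0 ∧ x ≠ 1 := by
  classical
  obtain ⟨s, hs⟩ := hK5
  by_contra h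
  have h' : ∀ x : K, x ≠ 0 → x = 1 := fun x hx => by
    by_contra hx1
    exact h ⟨x, hx, hx1⟩
  have : s ⊆ {0, 1} := by
    intro x _
    by_cases hx : x = 0
    · simp [hx]
    · simp [h' x hx]
  have h2 := Finset.card_le_card this
  have h3 : ({0, 1} : Finset K).card ≤ 2 := Finset.card_le_two
  omega

end Generic

variable {D : ChevalleyDatum} {K : Type*} [Field K] {E : Type*} [Group E]

omit [Field K] in
theorem lift_stX_of (φ : ℕ → K → E) {r : ℕ} (hr : r < D.nroots) (t : K) :
    FreeGroup.lift (fun a : Fin D.nroots × K => φ a.1.val a.2) (D.stX r t) = φ r t := by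
  unfold ChevalleyDatum.stX
  rw [dif_pos hr, FreeGroup.lift_apply_of]

omit [Field K] in
theorem lift_stWord_of (φ : ℕ → K → E) (w : List (ℕ × K)) (hw : ∀ p ∈ w, p.1 < D.nroots) :
    FreeGroup.lift (fun a : Fin D.nroots × K => φ a.1.val a.2) (D.stWord w) = wS φ w := by
  unfold ChevalleyDatum.stWord
  induction w with
  | nil => simp
  | cons p w ih =>
    rw [List.map_cons, List.prod_cons, map_mul, ih fun q hq => hw q (List.mem_cons_of_mem _ hq),
      lift_stX_of φ (hw p List.mem_cons_self), wS_cons]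

/-- lifts of the root elements satisfying (R1) and (R2) give a section -/
theorem exists_section_of (hD : D ∈ [chevG2, chevB2, chevD4, chevF4, chevE6, chevE7, chevE8])
    (ψ : E →* D.SteinbergCover K)
    (L : RootLift (scRepOf hD (scHom hD K) (fun r t hr => scHom_scGen hD r t hr)) ψ)
    (hcomm : ∀ r < D.nroots, ∀ s < D.nroots, s ≠ r → s ≠ D.neg r → ∀ t u : K,
      L.φ s u * L.φ r t = L.φ r t * L.φ s u * wS L.φ (D.commWord K r s t u)) :
    ∃ τ : D.SteinbergCover K →* E, ψ.comp τ = MonoidHom.id _ := by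
  have V := valid0_of_mem hD
  have hrel : ∀ g ∈ D.steinbergRelsAB K,
      FreeGroup.lift (fun a : Fin D.nroots × K => L.φ a.1.val a.2) g = 1 := by
    rintro g (⟨r, t₁, t₂, hr, rfl⟩ | ⟨r, s, t, u, hr, hs, h1, h2, rfl⟩)
    · rw [map_mul, map_mul, map_inv, lift_stX_of L.φ hr, lift_stX_of L.φ hr, lift_stX_of L.φ hr,
        L.add r hr, mul_inv_cancel]
    · have hw : ∀ p ∈ D.commWord K r s t u, p.1 < D.nroots := by
        intro p hp
        unfold ChevalleyDatum.commWord at hp
        obtain ⟨c, hc', rfl⟩ := List.mem_map.mp hp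
        exact commTerms_lt V hr hs c hc'
      rw [map_mul, map_mul, map_mul, map_mul, map_inv, map_inv, map_inv,
        lift_stWord_of L.φ _ hw, lift_stX_of L.φ hr, lift_stX_of L.φ hs]
      have e := hcomm r hr s hs h1 h2 t u
      have e' : wS L.φ (D.commWord K r s t u) = (L.φ r t * L.φ s u)⁻¹ * (L.φ s u * L.φ r t) := by
        rw [e]; group
      rw [e']
      group
  refine ⟨PresentedGroup.toGroup hrel, ?_⟩
  apply PresentedGroup.ext
  intro a
  rw [MonoidHom.comp_apply, PresentedGroup.toGroup.of, MonoidHom.id_apply]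
  have := L.map a.1.val a.1.isLt a.2
  rw [this]
  show D.scGen K a.1.val a.2 = _
  unfold ChevalleyDatum.scGen ChevalleyDatum.stX PresentedGroup.of
  rw [dif_pos a.1.isLt]

end Cfsg.Agent.Lib.Helper14.StCC
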