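import Cfsg.Agent.Lib.Helper8.ChevSt15

set_option autoImplicit false

/-! Steinberg's Theorem 10 (central extensions of the group presented by (R1), (R2) split when
`|K| > 4`): the boundary definitions shared by the three parts of the proof.

* Part A: construct a `RootLift` (equivariant additive lifts of the root elements).
* Part B: a `RootLift` satisfies the commutator relations (R2).
* Part C: assembly (section of the central extension, S2398, S2100). -/

namespace Cfsg.Agent.Lib.Helper14.StCC

open Cfsg.Lie Cfsg.Agent.Lib.Helper8.Chev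

variable {D : ChevalleyDatum} {K : Type*} [Field K] {Γ : Type*} [Group Γ] {E : Type*} [Group E]

/-- additive lifts `φ r t ∈ E` of the root elements `S.x r t ∈ Γ` along `ψ : E →* Γ`, equivariant
under every lift of every element of the torus `S.H0` -/
structure RootLift (S : StRep D K Γ) (ψ : E →* Γ) where
  φ : ℕ → K → E
  map : ∀ r < D.nroots, ∀ t : K, ψ (φ r t) = S.x r t
  add : ∀ r < D.nroots, ∀ t u : K, φ r t * φ r u = φ r (t + u)
  equiv : ∀ (g : E) (f : ℕ → K), ψ g ∈ S.H0 →
    (∀ s < D.nroots, ∀ u : K, ψ g * S.x s u * (ψ g)⁻¹ = S.x s (f s * u)) →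
    ∀ s < D.nroots, ∀ u : K, g * φ s u * g⁻¹ = φ s (f s * u)

/-- the integer `⟨s, δ^∨⟩` for the "coweight" `δ^∨ = ∑ m_i α_i^∨` -/
def wt (D : ChevalleyDatum) (m : ℕ → ℤ) (s : ℕ) : ℤ :=
  ∑ i ∈ Finset.range D.rank, m i * aco D (D.simple i) s

/-- torus elements with prescribed characters: for integers `m_i` and `v ≠ 0` the element
`∏ h_{α_i}(v ^ m_i)` of `H0` acts on `x_s` through the scalar `v ^ wt D m s` -/
theorem exists_torus (S : StRep D K Γ) (m : ℕ → ℤ) {v : K} (hv : v ≠ 0) :
    ∃ g ∈ S.H0, ∀ s < D.nroots, ∀ u : K,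
      g * S.x s u * g⁻¹ = S.x s (v ^ wt D m s * u) := by
  refine ⟨S.prodH (fun i => v ^ m i) (List.range D.rank), ?_, fun s hs u => ?_⟩
  · unfold StRep.prodH
    apply Subgroup.list_prod_mem
    intro x hx
    obtain ⟨i, hi, rfl⟩ := List.mem_map.mp hx
    exact S.h_mem_H0 (List.mem_range.mp hi) (zpow_ne_zero _ hv)
  · rw [S.prodH_conj (fun i => zpow_ne_zero _ hv) hs u (fun i hi => List.mem_range.mp hi)]
    congr 2
    rw [list_range_prod]
    unfold wt
    rw [← prod_zpow_sum₀ hv]
    apply Finset.prod_congr rfl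
    intro i _
    rw [← zpow_mul]

end Cfsg.Agent.Lib.Helper14.StCC
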