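import Cfsg.Agent.Lib.Helper16.F4CC.SectionGen
import Cfsg.Agent.Lib.Helper8.ChevFld3

set_option autoImplicit false

/-! Steinberg's Theorem 10 for a simply laced datum over a field with at least three elements
where some commuting pairs of roots `(r, s)` are invisible to the torus (type `D₄`: the orthogonal
pairs): for such a pair a root `b` with `r = r₀ + b`, `s = s₀ + b`, `r₀ ⊥ s₀` is given, and
conjugating the central defect of `(r₀, s₀)` by the lift of `x_b(1)` shows that the lifts of `x_r`,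
`x_s` commute.  (Piece of S2400, architect helper19; generic in the datum.) -/

namespace Cfsg.Agent.Lib.Helper14.StCC.Orth

open Cfsg.Lie Cfsg.Agent.Lib.Helper8.Chev Cfsg.Agent.Lib.Helper14.StCC
open Cfsg.Agent.Lib.Helper14.StCC.B Cfsg.Agent.Lib.Helper16.F4CC

/-- a coroot-lattice cocharacter killing `r` and of value `±1` on `s` -/
def GoodP (D : ChevalleyDatum) (r s : ℕ) : Prop :=
  ∃ m : ℕ → ℤ, wt D m r = 0 ∧ (wt D m s = 1 ∨ wt D m s = -1)

/-- admissible pair without commutator terms, visible to the torus -/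
def GNil (D : ChevalleyDatum) (a b : ℕ) : Prop := NilP D a b ∧ GoodP D a b

/-- admissible pair with the single term `(q, C, 1, 1)`, visible to the torus, the term commuting
visibly with the second root -/
def GOne (D : ChevalleyDatum) (a b q : ℕ) (C : ℤ) : Prop :=
  OneP D a b q C ∧ GoodP D a b ∧ GNil D b q

/-- the certificate for a pair `(r, s)` invisible to the torus -/
def OrthCert (D : ChevalleyDatum) (r s : ℕ) : Prop :=
  D.commTerms r s = [] ∧ D.commTerms s r = [] ∧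
  ∃ (b r0 s0 q : ℕ) (C1 C2 C3 C4 : ℤ),
    (C1 = 1 ∨ C1 = -1) ∧ (C2 = 1 ∨ C2 = -1) ∧
    GOne D r0 b r C1 ∧ GOne D s0 b s C2 ∧ GOne D r s0 q C3 ∧ GOne D r0 s q C4 ∧
    NilP D r0 s0 ∧ GNil D q r

variable {D : ChevalleyDatum} {K : Type*} [Field K] {Γ : Type*} [Group Γ] {E : Type*} [Group E]

/-- the group-theoretic heart: conjugating `S0 * R0 = R0 * S0 * z0` by `B` -/
theorem orth_core (B R0 S0 R' S' Q3 Q4 z0 z : E)
    (hz0 : ∀ x : E, x * z0 = z0 * x) (hz : ∀ x : E, x * z = z * x)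
    (hBR0 : B * R0 = R0 * B * R') (hBS0 : B * S0 = S0 * B * S')
    (hBR' : B * R' = R' * B) (hBS' : B * S' = S' * B)
    (h1 : S' * R0 = R0 * S' * Q4) (h2 : Q4 * R' = R' * Q4) (h3 : S' * R' = R' * S' * z)
    (h4 : S0 * R0 = R0 * S0 * z0) (h5 : S0 * R' = R' * S0 * Q3) (h6 : Q3 * S' = S' * Q3) :
    Q3 * Q4 * z = 1 := by
  have cR : B * R0 * B⁻¹ = R0 * R' := by
    calc B * R0 * B⁻¹ = R0 * B * R' * B⁻¹ := by rw [hBR0]
      _ = R0 * (B * R') * B⁻¹ := by group
      _ = R0 * (R' * B) * B⁻¹ := by rw [hBR']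
      _ = R0 * R' := by group
  have cS : B * S0 * B⁻¹ = S0 * S' := by
    calc B * S0 * B⁻¹ = S0 * B * S' * B⁻¹ := by rw [hBS0]
      _ = S0 * (B * S') * B⁻¹ := by group
      _ = S0 * (S' * B) * B⁻¹ := by rw [hBS']
      _ = S0 * S' := by group
  have cz : B * z0 * B⁻¹ = z0 := by
    rw [hz0 B]; group
  -- conjugate `h4`
  have e1 : S0 * S' * (R0 * R') = R0 * R' * (S0 * S') * z0 := by
    calc S0 * S' * (R0 * R') = (B * S0 * B⁻¹) * (B * R0 * B⁻¹) := by rw [cR, cS]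
      _ = B * (S0 * R0) * B⁻¹ := by group
      _ = B * (R0 * S0 * z0) * B⁻¹ := by rw [h4]
      _ = (B * R0 * B⁻¹) * (B * S0 * B⁻¹) * (B * z0 * B⁻¹) := by group
      _ = R0 * R' * (S0 * S') * z0 := by rw [cR, cS, cz]
  -- direct computation
  have e2 : S0 * S' * (R0 * R') = R0 * R' * (S0 * S') * (Q3 * Q4 * z0 * z) := by
    calc S0 * S' * (R0 * R') = S0 * (S' * R0) * R' := by group
      _ = S0 * (R0 * S' * Q4) * R' := by rw [h1]
      _ = S0 * R0 * S' * (Q4 * R') := by group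
      _ = S0 * R0 * S' * (R' * Q4) := by rw [h2]
      _ = S0 * R0 * (S' * R') * Q4 := by group
      _ = S0 * R0 * (R' * S' * z) * Q4 := by rw [h3]
      _ = (S0 * R0) * R' * S' * z * Q4 := by group
      _ = (R0 * S0 * z0) * R' * S' * z * Q4 := by rw [h4]
      _ = R0 * S0 * (z0 * R') * S' * z * Q4 := by group
      _ = R0 * S0 * (R' * z0) * S' * z * Q4 := by rw [hz0 R']
      _ = R0 * (S0 * R') * (z0 * S') * z * Q4 := by group
      _ = R0 * (R' * S0 * Q3) * (S' * z0) * z * Q4 := by rw [h5, hz0 S']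
      _ = R0 * R' * S0 * (Q3 * S') * z0 * z * Q4 := by group
      _ = R0 * R' * S0 * (S' * Q3) * z0 * z * Q4 := by rw [h6]
      _ = R0 * R' * (S0 * S') * Q3 * (z0 * z * Q4) := by group
      _ = R0 * R' * (S0 * S') * Q3 * (Q4 * (z0 * z)) := by
          rw [show z0 * z * Q4 = Q4 * (z0 * z) by rw [mul_assoc, ← hz Q4, ← mul_assoc, ← hz0 Q4, mul_assoc]]
      _ = R0 * R' * (S0 * S') * (Q3 * Q4 * z0 * z) := by group
  have e3 : z0 = Q3 * Q4 * z0 * z := by
    have := e1.symm.trans e2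
    exact mul_left_cancel this
  have e4 : z0 * 1 = z0 * (Q3 * Q4 * z) := by
    rw [mul_one]
    calc z0 = Q3 * Q4 * z0 * z := e3
      _ = z0 * (Q3 * Q4) * z := by rw [hz0 (Q3 * Q4)]
      _ = z0 * (Q3 * Q4 * z) := by group
  exact (mul_left_cancel e4).symm

section wiring

variable (S : StRep D K Γ) (hK3 : ∃ c : K, c ≠ 0 ∧ c ≠ 1) (ψ : E →* Γ)
  (hψ : Function.Surjective ψ) (hc : ψ.ker ≤ Subgroup.center E) (L : RootLift S ψ)

include hK3 hψ hc in
/-- (R2) for a pair visible to the torus, from the word identity `(*)` -/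
theorem r2_of_good {r s : ℕ} (hr : r < D.nroots) (hs : s < D.nroots) (h1 : s ≠ r)
    (h2 : s ≠ D.neg r) (hg : GoodP D r s)
    (hstar : ∀ b t u : K, L.φ s u * tW L.φ (D.commTerms r s) t (b * u) *
        (tW L.φ (D.commTerms r s) t u)⁻¹ * (L.φ s u)⁻¹ =
        tW L.φ (D.commTerms r s) t ((b - 1) * u)) :
    ∀ t u : K, L.φ s u * L.φ r t = L.φ r t * L.φ s u * wS L.φ (D.commWord K r s t u) := by
  obtain ⟨c, hc0, hc1⟩ := hK3
  obtain ⟨m, hm0, hm1⟩ := hg
  have hcinv : c⁻¹ ≠ 1 := by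
    intro h; apply hc1; rw [← inv_inv c, h, inv_one]
  have hb : c ^ wt D m s ≠ 1 := by
    rcases hm1 with h | h
    · rw [h, zpow_one]; exact hc1
    · rw [h, zpow_neg, zpow_one]; exact hcinv
  exact comm_of_star S ψ hψ hc L hr hs h1 h2 m hm0 hc0 hb
    (fun c' hc' => wt_commTerms S.hD m hr hs h1 h2 hc') (fun t u => hstar _ t u)

include hK3 hψ hc in
/-- lifts of a commuting pair visible to the torus commute -/
theorem commP_of_gnil {a b : ℕ} (h : GNil D a b) : CommP L.φ a b := by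
  obtain ⟨⟨ha, hb, h1, h2, hT⟩, hg⟩ := h
  intro x y
  have := r2_of_good S hK3 ψ hψ hc L ha hb h1 h2 hg
    (by intro b' t u; rw [hT]; exact star_shape0 L.φ b b' t u) x y
  rw [wS_commWord, hT, tW_nil, mul_one] at this
  exact this.symm

include hK3 hψ hc in
/-- (R2) for a one-term pair visible to the torus -/
theorem r2_of_gone {a b q : ℕ} {C : ℤ} (h : GOne D a b q C) (x y : K) :
    L.φ b y * L.φ a x = L.φ a x * L.φ b y * L.φ q ((C : K) * (-x) ^ 1 * y ^ 1) := by
  obtain ⟨⟨ha, hb, h1, h2, hT⟩, hg, hn⟩ := h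
  have hcomm := commP_of_gnil S hK3 ψ hψ hc L hn
  have := r2_of_good S hK3 ψ hψ hc L ha hb h1 h2 hg (by
      intro b' t u; rw [hT]
      exact star_shape1 L.φ (L.add q hn.1.2.1) hcomm b' t u) x y
  rw [wS_commWord, hT, tW_cons, tW_nil, mul_one] at this
  exact this

/-- the defect of a pair without commutator terms lies in the kernel, hence is central -/
theorem defect_nil {r s : ℕ} (h : NilP D r s) (t u : K) :
    ψ ((L.φ r t * L.φ s u)⁻¹ * (L.φ s u * L.φ r t)) = 1 := by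
  obtain ⟨hr, hs, h1, h2, hT⟩ := h
  have := S.comm r hr s hs h1 h2 t u
  rw [ChevalleyDatum.commWord, hT, List.map_nil, wS_nil, mul_one] at this
  rw [map_mul, map_inv, map_mul, map_mul, L.map r hr, L.map s hs, this, inv_mul_cancel]

/-- root elements of `Γ` determine their parameter -/
theorem x_inj_of (S : StRep D K Γ) {q : ℕ} (hq : q < D.nroots) {t u : K}
    (h : S.x q t = S.x q u) : t = u := by
  apply x_param_inj S.hD hq
  rw [← S.map q hq, ← S.map q hq, h]

include hK3 hψ hc in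
/-- the lifts of a pair with an `OrthCert` commute -/
theorem commP_of_orth {r s : ℕ} (hr : r < D.nroots) (hs : s < D.nroots) (h1 : s ≠ r)
    (h2 : s ≠ D.neg r) (h : OrthCert D r s) : CommP L.φ r s := by
  obtain ⟨hT, -, b, r0, s0, q, C1, C2, C3, C4, hC1, hC2, g1, g2, g3, g4, n0, nq⟩ := h
  have hC1' : (C1 : K) ≠ 0 := by rcases hC1 with rfl | rfl <;> simp
  have hC2' : (C2 : K) ≠ 0 := by rcases hC2 with rfl | rfl <;> simp
  intro x y
  set t : K := -(x / C1) with ht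
  set u : K := -(y / C2) with hu
  have hx : (C1 : K) * (-t) ^ 1 * (1 : K) ^ 1 = x := by
    rw [ht]; field_simp
  have hy : (C2 : K) * (-u) ^ 1 * (1 : K) ^ 1 = y := by
    rw [hu]; field_simp
  have hq : q < D.nroots := nq.1.1
  have hBR0 := r2_of_gone S hK3 ψ hψ hc L g1 t 1
  have hBS0 := r2_of_gone S hK3 ψ hψ hc L g2 u 1
  rw [hx] at hBR0
  rw [hy] at hBS0
  have hBR' := commP_of_gnil S hK3 ψ hψ hc L g1.2.2 1 x
  have hBS' := commP_of_gnil S hK3 ψ hψ hc L g2.2.2 1 y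
  have e1 := r2_of_gone S hK3 ψ hψ hc L g4 t y
  have e5 := r2_of_gone S hK3 ψ hψ hc L g3 x u
  have e2 := commP_of_gnil S hK3 ψ hψ hc L nq ((C4 : K) * (-t) ^ 1 * y ^ 1) x
  have e6 := (commP_of_gnil S hK3 ψ hψ hc L g4.2.2 y ((C3 : K) * (-x) ^ 1 * u ^ 1)).symm
  -- the two central defects
  have hz0k := defect_nil S ψ L n0 t u
  have hzk := defect_nil S ψ L ⟨hr, hs, h1, h2, hT⟩ x y
  have hz0 : ∀ w : E, w * ((L.φ r0 t * L.φ s0 u)⁻¹ * (L.φ s0 u * L.φ r0 t)) =
      ((L.φ r0 t * L.φ s0 u)⁻¹ * (L.φ s0 u * L.φ r0 t)) * w := by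
    have := hc (MonoidHom.mem_ker.mpr hz0k)
    rw [Subgroup.mem_center_iff] at this
    exact this
  have hz : ∀ w : E, w * ((L.φ r x * L.φ s y)⁻¹ * (L.φ s y * L.φ r x)) =
      ((L.φ r x * L.φ s y)⁻¹ * (L.φ s y * L.φ r x)) * w := by
    have := hc (MonoidHom.mem_ker.mpr hzk)
    rw [Subgroup.mem_center_iff] at this
    exact this
  have key := orth_core (L.φ b 1) (L.φ r0 t) (L.φ s0 u) (L.φ r x) (L.φ s y)
    (L.φ q ((C3 : K) * (-x) ^ 1 * u ^ 1)) (L.φ q ((C4 : K) * (-t) ^ 1 * y ^ 1))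
    ((L.φ r0 t * L.φ s0 u)⁻¹ * (L.φ s0 u * L.φ r0 t))
    ((L.φ r x * L.φ s y)⁻¹ * (L.φ s y * L.φ r x)) hz0 hz hBR0 hBS0 hBR' hBS' e1 e2 (by group)
    (by group) e5 e6
  -- the two `q`-terms cancel
  rw [L.add q hq] at key
  have hk := congrArg ψ key
  rw [map_mul, hzk, mul_one, map_one, L.map q hq] at hk
  have h0 : S.x q 0 = 1 := S.x_zero hq
  have hsum := x_inj_of S hq (hk.trans h0.symm)
  rw [hsum] at key
  have hφ0 : L.φ q 0 = 1 := by
    have := L.add q hq 0 0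
    rw [add_zero] at this
    exact mul_eq_left.mp this
  rw [hφ0, one_mul] at key
  -- `key : (φ r x * φ s y)⁻¹ * (φ s y * φ r x) = 1`
  have := inv_mul_eq_one.mp key
  exact this

include hK3 hψ hc in
/-- PART B from the pair table `GoodP ∨ OrthCert` -/
theorem comm_of_orth
    (hpair : ∀ r s : ℕ, r < D.nroots → s < D.nroots → s ≠ r → s ≠ D.neg r →
      GoodP D r s ∨ OrthCert D r s) :
    ∀ r < D.nroots, ∀ s < D.nroots, s ≠ r → s ≠ D.neg r → ∀ t u : K,
      L.φ s u * L.φ r t = L.φ r t * L.φ s u * wS L.φ (D.commWord K r s t u) := by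
  obtain ⟨c, hc0, hc1⟩ := hK3
  have hcinv : c⁻¹ ≠ 1 := by
    intro h; apply hc1; rw [← inv_inv c, h, inv_one]
  apply B.comm_main_gen S ψ hψ hc L
    (fun _ _ hr hs h1 h2 => B.Helper16.shapeP_all S.hD hr hs h1 h2) _
    (fun m _ _ hr hs h1 h2 _ hc' => wt_commTerms S.hD m hr hs h1 h2 hc')
  intro r s hr hs h1 h2
  rcases hpair r s hr hs h1 h2 with ⟨m, hm0, hm1⟩ | ho
  · left
    refine ⟨m, c, hm0, hc0, ?_⟩
    rcases hm1 with h | h
    · rw [h, zpow_one]; exact hc1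
    · rw [h, zpow_neg, zpow_one]; exact hcinv
  · right
    exact ⟨ho.1, ho.2.1, commP_of_orth S ⟨c, hc0, hc1⟩ ψ hψ hc L hr hs h1 h2 ho⟩

end wiring

/-- every central extension of the group of type `D` presented by (R1), (R2) over a field with at
least three elements splits, given `CommData1` for every root and `GoodP ∨ OrthCert` for every
admissible ordered pair of roots -/
theorem exists_section_orth (hD : D ∈ [chevG2, chevB2, chevD4, chevF4, chevE6, chevE7, chevE8])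
    (hK3 : ∃ c : K, c ≠ 0 ∧ c ≠ 1)
    (hperf : commutator (D.SteinbergCover K) = ⊤)
    (hcd : ∀ r < D.nroots, (∃ m : ℕ → ℤ, wt D m r = 1) ∧ CommData1 D r)
    (hpair : ∀ r s : ℕ, r < D.nroots → s < D.nroots → s ≠ r → s ≠ D.neg r →
      GoodP D r s ∨ OrthCert D r s)
    (ψ : E →* D.SteinbergCover K)
    (hψ : Function.Surjective ψ) (hc : ψ.ker ≤ Subgroup.center E) :
    ∃ τ : D.SteinbergCover K →* E, ψ.comp τ = MonoidHom.id _ := by
  obtain ⟨L⟩ := exists_rootLift_of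
    (scRepOf hD (scHom hD K) (fun r t hr => scHom_scGen hD r t hr)) hK3 hperf ψ hψ hc
    (fun r hr => lifts_commute_of_commData1 _ ψ hψ hc hr (hcd r hr).2)
    (fun r hr => (hcd r hr).1)
  exact exists_section_of hD ψ L (comm_of_orth _ hK3 ψ hψ hc L hpair)

end Cfsg.Agent.Lib.Helper14.StCC.Orth
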