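import Cfsg.Agent.Lib.Helper14.StCC.OrthCore
import Cfsg.Agent.Lib.Helper13.StCCBBMD4
import Cfsg.Agent.Lib.Helper20.F4CCFT1

set_option autoImplicit false

/-! Piece of S2400 (type `D₄`, `|K| ≥ 3`): generic Bool checkers for the pair table
`GoodP ∨ OrthCert` of `OrthCore`, and the kernel-checked certificates for `chevD4`. -/

namespace Cfsg.Agent.Lib.Helper14.StCC.Orth

open Cfsg.Lie Cfsg.Agent.Lib.Helper8.Chev Cfsg.Agent.Lib.Helper14.StCC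
open Cfsg.Agent.Lib.Helper14.StCC.B Cfsg.Agent.Lib.Helper14.StCC.B.Helper13
open Cfsg.Agent.Lib.Helper16.F4CC

/-- `GoodP` with an explicit witness, through the table of the vectors `(⟨s, α_i^∨⟩)_i` -/
noncomputable def goodB (tab : List (List ℤ)) (r s : ℕ) (m : List ℤ) : Bool :=
  decide (dotF m (tab.getD r []) = 0) &&
    (decide (dotF m (tab.getD s []) = 1) || decide (dotF m (tab.getD s []) = -1))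

theorem goodB_spec {D : ChevalleyDatum} {tab : List (List ℤ)} (htab : checkTab D tab = true)
    {r s : ℕ} (hr : r < D.nroots) (hs : s < D.nroots) {m : List ℤ}
    (h : goodB tab r s m = true) : GoodP D r s := by
  simp only [goodB, Bool.and_eq_true, Bool.or_eq_true, decide_eq_true_eq] at h
  refine ⟨fun i => m.getD i 0, ?_, ?_⟩
  · rw [tab_spec htab hr]; exact h.1
  · rw [tab_spec htab hs]; exact h.2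

/-- `NilP` as a Bool -/
def nilB (D : ChevalleyDatum) (a b : ℕ) : Bool :=
  decide (a < D.nroots) && decide (b < D.nroots) && !(b == a) && !(b == D.neg a) &&
    (D.commTerms a b).isEmpty

theorem nilB_spec {D : ChevalleyDatum} {a b : ℕ} (h : nilB D a b = true) : NilP D a b := by
  simp only [nilB, Bool.and_eq_true, decide_eq_true_eq, Bool.not_eq_true', beq_eq_false_iff_ne,
    List.isEmpty_iff] at h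
  obtain ⟨⟨⟨⟨h1, h2⟩, h3⟩, h4⟩, h5⟩ := h
  exact ⟨h1, h2, h3, h4, h5⟩

/-- `OneP` as a Bool -/
def oneB (D : ChevalleyDatum) (a b q : ℕ) (C : ℤ) : Bool :=
  decide (a < D.nroots) && decide (b < D.nroots) && !(b == a) && !(b == D.neg a) &&
    decide (D.commTerms a b = [(q, C, 1, 1)])

theorem oneB_spec {D : ChevalleyDatum} {a b q : ℕ} {C : ℤ} (h : oneB D a b q C = true) :
    OneP D a b q C := by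
  simp only [oneB, Bool.and_eq_true, decide_eq_true_eq, Bool.not_eq_true',
    beq_eq_false_iff_ne] at h
  obtain ⟨⟨⟨⟨h1, h2⟩, h3⟩, h4⟩, h5⟩ := h
  exact ⟨h1, h2, h3, h4, h5⟩

/-- the witness of the pair `(r, s)` in a two-dimensional table -/
def gm (G : List (List (List ℤ))) (r s : ℕ) : List ℤ := (G.getD r []).getD s []

noncomputable def gnilB (D : ChevalleyDatum) (tab : List (List ℤ)) (G : List (List (List ℤ)))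
    (a b : ℕ) : Bool :=
  nilB D a b && goodB tab a b (gm G a b)

theorem gnilB_spec {D : ChevalleyDatum} {tab : List (List ℤ)} (htab : checkTab D tab = true)
    {G : List (List (List ℤ))} {a b : ℕ} (h : gnilB D tab G a b = true) : GNil D a b := by
  simp only [gnilB, Bool.and_eq_true] at h
  have hn := nilB_spec h.1
  exact ⟨hn, goodB_spec htab hn.1 hn.2.1 h.2⟩

noncomputable def goneB (D : ChevalleyDatum) (tab : List (List ℤ)) (G : List (List (List ℤ)))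
    (a b q : ℕ) (C : ℤ) : Bool :=
  oneB D a b q C && goodB tab a b (gm G a b) && gnilB D tab G b q

theorem goneB_spec {D : ChevalleyDatum} {tab : List (List ℤ)} (htab : checkTab D tab = true)
    {G : List (List (List ℤ))} {a b q : ℕ} {C : ℤ} (h : goneB D tab G a b q C = true) :
    GOne D a b q C := by
  simp only [goneB, Bool.and_eq_true] at h
  have ho := oneB_spec h.1.1
  exact ⟨ho, goodB_spec htab ho.1 ho.2.1 h.1.2, gnilB_spec htab h.2⟩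

/-- `OrthCert` with explicit witnesses `(b, r0, s0, q, C1, C2, C3, C4)` -/
noncomputable def orthB (D : ChevalleyDatum) (tab : List (List ℤ)) (G : List (List (List ℤ)))
    (r s : ℕ) (c : ℕ × ℕ × ℕ × ℕ × ℤ × ℤ × ℤ × ℤ) : Bool :=
  (D.commTerms r s).isEmpty && (D.commTerms s r).isEmpty &&
  (c.2.2.2.2.1 == 1 || c.2.2.2.2.1 == -1) && (c.2.2.2.2.2.1 == 1 || c.2.2.2.2.2.1 == -1) &&
  goneB D tab G c.2.1 c.1 r c.2.2.2.2.1 && goneB D tab G c.2.2.1 c.1 s c.2.2.2.2.2.1 &&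
  goneB D tab G r c.2.2.1 c.2.2.2.1 c.2.2.2.2.2.2.1 &&
  goneB D tab G c.2.1 s c.2.2.2.1 c.2.2.2.2.2.2.2 &&
  nilB D c.2.1 c.2.2.1 && gnilB D tab G c.2.2.2.1 r

theorem orthB_spec {D : ChevalleyDatum} {tab : List (List ℤ)} (htab : checkTab D tab = true)
    {G : List (List (List ℤ))} {r s : ℕ} {c : ℕ × ℕ × ℕ × ℕ × ℤ × ℤ × ℤ × ℤ}
    (h : orthB D tab G r s c = true) : OrthCert D r s := by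
  simp only [orthB, Bool.and_eq_true, Bool.or_eq_true, beq_iff_eq, List.isEmpty_iff] at h
  obtain ⟨⟨⟨⟨⟨⟨⟨⟨⟨h1, h2⟩, h3⟩, h4⟩, h5⟩, h6⟩, h7⟩, h8⟩, h9⟩, h10⟩ := h
  exact ⟨h1, h2, c.1, c.2.1, c.2.2.1, c.2.2.2.1, c.2.2.2.2.1, c.2.2.2.2.2.1, c.2.2.2.2.2.2.1,
    c.2.2.2.2.2.2.2, h3, h4, goneB_spec htab h5, goneB_spec htab h6, goneB_spec htab h7,
    goneB_spec htab h8, nilB_spec h9, gnilB_spec htab h10⟩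

/-- the check of one ordered pair -/
noncomputable def pairB (D : ChevalleyDatum) (tab : List (List ℤ)) (G : List (List (List ℤ)))
    (O : List (List (ℕ × ℕ × ℕ × ℕ × ℤ × ℤ × ℤ × ℤ))) (r s : ℕ) : Bool :=
  goodB tab r s (gm G r s) || orthB D tab G r s ((O.getD r []).getD s (0, 0, 0, 0, 0, 0, 0, 0))

/-- the check of all admissible ordered pairs -/
noncomputable def checkPairs (D : ChevalleyDatum) (tab : List (List ℤ))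
    (G : List (List (List ℤ))) (O : List (List (ℕ × ℕ × ℕ × ℕ × ℤ × ℤ × ℤ × ℤ))) : Bool :=
  (List.range D.nroots).all fun r => (List.range D.nroots).all fun s =>
    s == r || s == D.neg r || pairB D tab G O r s

theorem checkPairs_spec {D : ChevalleyDatum} {tab : List (List ℤ)}
    (htab : checkTab D tab = true) {G : List (List (List ℤ))}
    {O : List (List (ℕ × ℕ × ℕ × ℕ × ℤ × ℤ × ℤ × ℤ))} (h : checkPairs D tab G O = true)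
    {r s : ℕ} (hr : r < D.nroots) (hs : s < D.nroots) (h1 : s ≠ r) (h2 : s ≠ D.neg r) :
    GoodP D r s ∨ OrthCert D r s := by
  simp only [checkPairs, List.all_eq_true, List.mem_range, Bool.or_eq_true, beq_iff_eq] at h
  rcases h r hr s hs with (h' | h') | h'
  · exact absurd h' h1
  · exact absurd h' h2
  · simp only [pairB, Bool.or_eq_true] at h'
    rcases h' with h' | h'
    · exact Or.inl (goodB_spec htab hr hs h')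
    · exact Or.inr (orthB_spec htab h')

/-! ### The certificates for `chevD4` -/

set_option maxHeartbeats 0 in
/-- for every ordered pair visible to the torus a coroot vector `m` -/
def goodD4 : List (List (List ℤ)) :=
  [[[], [-1, 0, 0, 0], [-1, 0, 0, 0], [-1, 0, 0, 0], [-1, 0, 0, 0], [], [-1, 0, 0, 0], [-1, 0, 0, 0], [-1, 0, 0, 0], [-1, 0, 0, 0], [], [], [], [], [-1, 0, 0, 0], [-1, 0, 0, 0], [-1, 0, 0, 0], [-1, 0, 0, 0], [], [-1, 0, 0, 0], [-1, 0, 0, 0], [-1, 0, 0, 0], [-1, 0, 0, 0], []],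
   [[-1, -1, 0, 0], [], [-1, -1, 0, 0], [-1, -1, 0, 0], [], [-1, -1, 0, 0], [-1, -1, 0, 0], [], [], [-1, -1, 0, 0], [-1, -1, 0, 0], [-1, -1, 0, 0], [-1, -1, 0, 0], [-1, -1, 0, 0], [-1, -1, 0, 0], [], [], [-1, -1, 0, 0], [-1, -1, 0, 0], [], [-1, -1, 0, 0], [-1, -1, 0, 0], [], [-1, -1, 0, 0]],
   [[-1, -1, 0, -1], [-1, -1, 0, -1], [], [], [-1, -1, 0, -1], [-1, -1, 0, -1], [], [-1, -1, 0, -1], [-1, -1, 0, -1], [], [-1, -1, 0, -1], [-1, -1, 0, -1], [-1, -1, 0, -1], [-1, -1, 0, -1], [], [-1, -1, 0, -1], [-1, -1, 0, -1], [], [-1, -1, 0, -1], [-1, -1, 0, -1], [], [], [-1, -1, 0, -1], [-1, -1, 0, -1]],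
   [[-1, -1, -1, 0], [-1, -1, -1, 0], [], [], [-1, -1, -1, 0], [-1, -1, -1, 0], [], [-1, -1, -1, 0], [-1, -1, -1, 0], [], [-1, -1, -1, 0], [-1, -1, -1, 0], [-1, -1, -1, 0], [-1, -1, -1, 0], [], [-1, -1, -1, 0], [-1, -1, -1, 0], [], [-1, -1, -1, 0], [-1, -1, -1, 0], [], [], [-1, -1, -1, 0], [-1, -1, -1, 0]],
   [[-1, -1, -1, -1], [], [-1, -1, -1, -1], [-1, -1, -1, -1], [], [-1, -1, -1, -1], [-1, -1, -1, -1], [], [], [-1, -1, -1, -1], [-1, -1, -1, -1], [-1, -1, -1, -1], [-1, -1, -1, -1], [-1, -1, -1, -1], [-1, -1, -1, -1], [], [], [-1, -1, -1, -1], [-1, -1, -1, -1], [], [-1, -1, -1, -1], [-1, -1, -1, -1], [], [-1, -1, -1, -1]],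
   [[], [-1, -2, -1, -1], [-1, -2, -1, -1], [-1, -2, -1, -1], [-1, -2, -1, -1], [], [-1, -2, -1, -1], [-1, -2, -1, -1], [-1, -2, -1, -1], [-1, -2, -1, -1], [], [], [], [], [-1, -2, -1, -1], [-1, -2, -1, -1], [-1, -2, -1, -1], [-1, -2, -1, -1], [], [-1, -2, -1, -1], [-1, -2, -1, -1], [-1, -2, -1, -1], [-1, -2, -1, -1], []],
   [[-1, -1, -1, 0], [-1, -1, -1, 0], [], [], [-1, -1, -1, 0], [-1, -1, -1, 0], [], [-1, -1, -1, 0], [-1, -1, -1, 0], [], [-1, -1, -1, 0], [-1, -1, -1, 0], [-1, -1, -1, 0], [-1, -1, -1, 0], [], [-1, -1, -1, 0], [-1, -1, -1, 0], [], [-1, -1, -1, 0], [-1, -1, -1, 0], [], [], [-1, -1, -1, 0], [-1, -1, -1, 0]],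
   [[-1, -1, -1, -1], [], [-1, -1, -1, -1], [-1, -1, -1, -1], [], [-1, -1, -1, -1], [-1, -1, -1, -1], [], [], [-1, -1, -1, -1], [-1, -1, -1, -1], [-1, -1, -1, -1], [-1, -1, -1, -1], [-1, -1, -1, -1], [-1, -1, -1, -1], [], [], [-1, -1, -1, -1], [-1, -1, -1, -1], [], [-1, -1, -1, -1], [-1, -1, -1, -1], [], [-1, -1, -1, -1]],
   [[-1, -1, -1, -1], [], [-1, -1, -1, -1], [-1, -1, -1, -1], [], [-1, -1, -1, -1], [-1, -1, -1, -1], [], [], [-1, -1, -1, -1], [-1, -1, -1, -1], [-1, -1, -1, -1], [-1, -1, -1, -1], [-1, -1, -1, -1], [-1, -1, -1, -1], [], [], [-1, -1, -1, -1], [-1, -1, -1, -1], [], [-1, -1, -1, -1], [-1, -1, -1, -1], [], [-1, -1, -1, -1]],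
   [[-1, -1, -1, 0], [-1, -1, -1, 0], [], [], [-1, -1, -1, 0], [-1, -1, -1, 0], [], [-1, -1, -1, 0], [-1, -1, -1, 0], [], [-1, -1, -1, 0], [-1, -1, -1, 0], [-1, -1, -1, 0], [-1, -1, -1, 0], [], [-1, -1, -1, 0], [-1, -1, -1, 0], [], [-1, -1, -1, 0], [-1, -1, -1, 0], [], [], [-1, -1, -1, 0], [-1, -1, -1, 0]],
   [[], [-1, -2, -1, -1], [-1, -2, -1, -1], [-1, -2, -1, -1], [-1, -2, -1, -1], [], [-1, -2, -1, -1], [-1, -2, -1, -1], [-1, -2, -1, -1], [-1, -2, -1, -1], [], [], [], [], [-1, -2, -1, -1], [-1, -2, -1, -1], [-1, -2, -1, -1], [-1, -2, -1, -1], [], [-1, -2, -1, -1], [-1, -2, -1, -1], [-1, -2, -1, -1], [-1, -2, -1, -1], []],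
   [[], [-1, -2, -1, -1], [-1, -2, -1, -1], [-1, -2, -1, -1], [-1, -2, -1, -1], [], [-1, -2, -1, -1], [-1, -2, -1, -1], [-1, -2, -1, -1], [-1, -2, -1, -1], [], [], [], [], [-1, -2, -1, -1], [-1, -2, -1, -1], [-1, -2, -1, -1], [-1, -2, -1, -1], [], [-1, -2, -1, -1], [-1, -2, -1, -1], [-1, -2, -1, -1], [-1, -2, -1, -1], []],
   [[], [-1, -2, -1, -1], [-1, -2, -1, -1], [-1, -2, -1, -1], [-1, -2, -1, -1], [], [-1, -2, -1, -1], [-1, -2, -1, -1], [-1, -2, -1, -1], [-1, -2, -1, -1], [], [], [], [], [-1, -2, -1, -1], [-1, -2, -1, -1], [-1, -2, -1, -1], [-1, -2, -1, -1], [], [-1, -2, -1, -1], [-1, -2, -1, -1], [-1, -2, -1, -1], [-1, -2, -1, -1], []],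
   [[], [-1, -2, -1, -1], [-1, -2, -1, -1], [-1, -2, -1, -1], [-1, -2, -1, -1], [], [-1, -2, -1, -1], [-1, -2, -1, -1], [-1, -2, -1, -1], [-1, -2, -1, -1], [], [], [], [], [-1, -2, -1, -1], [-1, -2, -1, -1], [-1, -2, -1, -1], [-1, -2, -1, -1], [], [-1, -2, -1, -1], [-1, -2, -1, -1], [-1, -2, -1, -1], [-1, -2, -1, -1], []],
   [[-1, -1, -1, 0], [-1, -1, -1, 0], [], [], [-1, -1, -1, 0], [-1, -1, -1, 0], [], [-1, -1, -1, 0], [-1, -1, -1, 0], [], [-1, -1, -1, 0], [-1, -1, -1, 0], [-1, -1, -1, 0], [-1, -1, -1, 0], [], [-1, -1, -1, 0], [-1, -1, -1, 0], [], [-1, -1, -1, 0], [-1, -1, -1, 0], [], [], [-1, -1, -1, 0], [-1, -1, -1, 0]],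
   [[-1, -1, -1, -1], [], [-1, -1, -1, -1], [-1, -1, -1, -1], [], [-1, -1, -1, -1], [-1, -1, -1, -1], [], [], [-1, -1, -1, -1], [-1, -1, -1, -1], [-1, -1, -1, -1], [-1, -1, -1, -1], [-1, -1, -1, -1], [-1, -1, -1, -1], [], [], [-1, -1, -1, -1], [-1, -1, -1, -1], [], [-1, -1, -1, -1], [-1, -1, -1, -1], [], [-1, -1, -1, -1]],
   [[-1, -1, -1, -1], [], [-1, -1, -1, -1], [-1, -1, -1, -1], [], [-1, -1, -1, -1], [-1, -1, -1, -1], [], [], [-1, -1, -1, -1], [-1, -1, -1, -1], [-1, -1, -1, -1], [-1, -1, -1, -1], [-1, -1, -1, -1], [-1, -1, -1, -1], [], [], [-1, -1, -1, -1], [-1, -1, -1, -1], [], [-1, -1, -1, -1], [-1, -1, -1, -1], [], [-1, -1, -1, -1]],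
   [[-1, -1, -1, 0], [-1, -1, -1, 0], [], [], [-1, -1, -1, 0], [-1, -1, -1, 0], [], [-1, -1, -1, 0], [-1, -1, -1, 0], [], [-1, -1, -1, 0], [-1, -1, -1, 0], [-1, -1, -1, 0], [-1, -1, -1, 0], [], [-1, -1, -1, 0], [-1, -1, -1, 0], [], [-1, -1, -1, 0], [-1, -1, -1, 0], [], [], [-1, -1, -1, 0], [-1, -1, -1, 0]],
   [[], [-1, -2, -1, -1], [-1, -2, -1, -1], [-1, -2, -1, -1], [-1, -2, -1, -1], [], [-1, -2, -1, -1], [-1, -2, -1, -1], [-1, -2, -1, -1], [-1, -2, -1, -1], [], [], [], [], [-1, -2, -1, -1], [-1, -2, -1, -1], [-1, -2, -1, -1], [-1, -2, -1, -1], [], [-1, -2, -1, -1], [-1, -2, -1, -1], [-1, -2, -1, -1], [-1, -2, -1, -1], []],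
   [[-1, -1, -1, -1], [], [-1, -1, -1, -1], [-1, -1, -1, -1], [], [-1, -1, -1, -1], [-1, -1, -1, -1], [], [], [-1, -1, -1, -1], [-1, -1, -1, -1], [-1, -1, -1, -1], [-1, -1, -1, -1], [-1, -1, -1, -1], [-1, -1, -1, -1], [], [], [-1, -1, -1, -1], [-1, -1, -1, -1], [], [-1, -1, -1, -1], [-1, -1, -1, -1], [], [-1, -1, -1, -1]],
   [[-1, -1, -1, 0], [-1, -1, -1, 0], [], [], [-1, -1, -1, 0], [-1, -1, -1, 0], [], [-1, -1, -1, 0], [-1, -1, -1, 0], [], [-1, -1, -1, 0], [-1, -1, -1, 0], [-1, -1, -1, 0], [-1, -1, -1, 0], [], [-1, -1, -1, 0], [-1, -1, -1, 0], [], [-1, -1, -1, 0], [-1, -1, -1, 0], [], [], [-1, -1, -1, 0], [-1, -1, -1, 0]],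
   [[-1, -1, 0, -1], [-1, -1, 0, -1], [], [], [-1, -1, 0, -1], [-1, -1, 0, -1], [], [-1, -1, 0, -1], [-1, -1, 0, -1], [], [-1, -1, 0, -1], [-1, -1, 0, -1], [-1, -1, 0, -1], [-1, -1, 0, -1], [], [-1, -1, 0, -1], [-1, -1, 0, -1], [], [-1, -1, 0, -1], [-1, -1, 0, -1], [], [], [-1, -1, 0, -1], [-1, -1, 0, -1]],
   [[-1, -1, 0, 0], [], [-1, -1, 0, 0], [-1, -1, 0, 0], [], [-1, -1, 0, 0], [-1, -1, 0, 0], [], [], [-1, -1, 0, 0], [-1, -1, 0, 0], [-1, -1, 0, 0], [-1, -1, 0, 0], [-1, -1, 0, 0], [-1, -1, 0, 0], [], [], [-1, -1, 0, 0], [-1, -1, 0, 0], [], [-1, -1, 0, 0], [-1, -1, 0, 0], [], [-1, -1, 0, 0]],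
   [[], [-1, 0, 0, 0], [-1, 0, 0, 0], [-1, 0, 0, 0], [-1, 0, 0, 0], [], [-1, 0, 0, 0], [-1, 0, 0, 0], [-1, 0, 0, 0], [-1, 0, 0, 0], [], [], [], [], [-1, 0, 0, 0], [-1, 0, 0, 0], [-1, 0, 0, 0], [-1, 0, 0, 0], [], [-1, 0, 0, 0], [-1, 0, 0, 0], [-1, 0, 0, 0], [-1, 0, 0, 0], []]]

set_option maxHeartbeats 0 in
/-- for every orthogonal ordered pair the witnesses `(b, r0, s0, q, C1, C2, C3, C4)` -/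
def orthD4 : List (List (ℕ × ℕ × ℕ × ℕ × ℤ × ℤ × ℤ × ℤ)) :=
  [[(0, 0, 0, 0, 0, 0, 0, 0), (0, 0, 0, 0, 0, 0, 0, 0), (0, 0, 0, 0, 0, 0, 0, 0), (0, 0, 0, 0, 0, 0, 0, 0), (0, 0, 0, 0, 0, 0, 0, 0), (1, 9, 17, 4, -1, -1, 1, -1), (0, 0, 0, 0, 0, 0, 0, 0), (0, 0, 0, 0, 0, 0, 0, 0), (0, 0, 0, 0, 0, 0, 0, 0), (0, 0, 0, 0, 0, 0, 0, 0), (1, 9, 20, 7, -1, 1, 1, 1), (1, 9, 21, 8, -1, 1, 1, 1), (2, 8, 22, 9, 1, 1, -1, 1), (3, 7, 22, 9, 1, 1, -1, 1), (0, 0, 0, 0, 0, 0, 0, 0), (0, 0, 0, 0, 0, 0, 0, 0), (0, 0, 0, 0, 0, 0, 0, 0), (0, 0, 0, 0, 0, 0, 0, 0), (6, 4, 22, 9, 1, -1, -1, -1), (0, 0, 0, 0, 0, 0, 0, 0), (0, 0, 0, 0, 0, 0, 0, 0), (0, 0, 0, 0, 0, 0, 0, 0), (0, 0, 0, 0, 0, 0, 0, 0), (0, 0, 0, 0, 0, 0, 0, 0)],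
   [(0, 0, 0, 0, 0, 0, 0, 0), (0, 0, 0, 0, 0, 0, 0, 0), (0, 0, 0, 0, 0, 0, 0, 0), (0, 0, 0, 0, 0, 0, 0, 0), (0, 14, 17, 5, -1, -1, 1, -1), (0, 0, 0, 0, 0, 0, 0, 0), (0, 0, 0, 0, 0, 0, 0, 0), (0, 14, 20, 10, -1, -1, -1, 1), (0, 14, 21, 11, -1, -1, -1, 1), (0, 0, 0, 0, 0, 0, 0, 0), (0, 0, 0, 0, 0, 0, 0, 0), (0, 0, 0, 0, 0, 0, 0, 0), (0, 0, 0, 0, 0, 0, 0, 0), (0, 0, 0, 0, 0, 0, 0, 0), (0, 0, 0, 0, 0, 0, 0, 0), (2, 11, 23, 14, -1, -1, -1, 1), (3, 10, 23, 14, -1, -1, -1, 1), (0, 0, 0, 0, 0, 0, 0, 0), (0, 0, 0, 0, 0, 0, 0, 0), (6, 5, 23, 14, 1, -1, -1, -1), (0, 0, 0, 0, 0, 0, 0, 0), (0, 0, 0, 0, 0, 0, 0, 0), (0, 0, 0, 0, 0, 0, 0, 0), (0, 0, 0, 0, 0, 0, 0, 0)],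
   [(0, 0, 0, 0, 0, 0, 0, 0), (0, 0, 0, 0, 0, 0, 0, 0), (0, 0, 0, 0, 0, 0, 0, 0), (0, 15, 16, 5, 1, 1, 1, -1), (0, 0, 0, 0, 0, 0, 0, 0), (0, 0, 0, 0, 0, 0, 0, 0), (0, 15, 19, 10, 1, 1, -1, 1), (0, 0, 0, 0, 0, 0, 0, 0), (0, 0, 0, 0, 0, 0, 0, 0), (0, 15, 22, 12, 1, 1, -1, 1), (0, 0, 0, 0, 0, 0, 0, 0), (0, 0, 0, 0, 0, 0, 0, 0), (0, 0, 0, 0, 0, 0, 0, 0), (0, 0, 0, 0, 0, 0, 0, 0), (1, 12, 23, 15, -1, 1, 1, 1), (0, 0, 0, 0, 0, 0, 0, 0), (0, 0, 0, 0, 0, 0, 0, 0), (4, 10, 23, 15, -1, 1, 1, 1), (0, 0, 0, 0, 0, 0, 0, 0), (0, 0, 0, 0, 0, 0, 0, 0), (7, 5, 23, 15, 1, 1, 1, -1), (0, 0, 0, 0, 0, 0, 0, 0), (0, 0, 0, 0, 0, 0, 0, 0), (0, 0, 0, 0, 0, 0, 0, 0)],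
   [(0, 0, 0, 0, 0, 0, 0, 0), (0, 0, 0, 0, 0, 0, 0, 0), (0, 16, 15, 5, 1, 1, 1, -1), (0, 0, 0, 0, 0, 0, 0, 0), (0, 0, 0, 0, 0, 0, 0, 0), (0, 0, 0, 0, 0, 0, 0, 0), (0, 16, 19, 11, 1, 1, -1, 1), (0, 0, 0, 0, 0, 0, 0, 0), (0, 0, 0, 0, 0, 0, 0, 0), (0, 16, 22, 13, 1, 1, -1, 1), (0, 0, 0, 0, 0, 0, 0, 0), (0, 0, 0, 0, 0, 0, 0, 0), (0, 0, 0, 0, 0, 0, 0, 0), (0, 0, 0, 0, 0, 0, 0, 0), (1, 13, 23, 16, -1, 1, 1, 1), (0, 0, 0, 0, 0, 0, 0, 0), (0, 0, 0, 0, 0, 0, 0, 0), (4, 11, 23, 16, -1, 1, 1, 1), (0, 0, 0, 0, 0, 0, 0, 0), (0, 0, 0, 0, 0, 0, 0, 0), (0, 0, 0, 0, 0, 0, 0, 0), (8, 5, 23, 16, 1, 1, 1, -1), (0, 0, 0, 0, 0, 0, 0, 0), (0, 0, 0, 0, 0, 0, 0, 0)],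
   [(0, 0, 0, 0, 0, 0, 0, 0), (0, 17, 14, 5, -1, -1, 1, -1), (0, 0, 0, 0, 0, 0, 0, 0), (0, 0, 0, 0, 0, 0, 0, 0), (0, 0, 0, 0, 0, 0, 0, 0), (0, 0, 0, 0, 0, 0, 0, 0), (0, 0, 0, 0, 0, 0, 0, 0), (0, 17, 20, 12, -1, -1, -1, 1), (0, 17, 21, 13, -1, -1, -1, 1), (0, 0, 0, 0, 0, 0, 0, 0), (0, 0, 0, 0, 0, 0, 0, 0), (0, 0, 0, 0, 0, 0, 0, 0), (0, 0, 0, 0, 0, 0, 0, 0), (0, 0, 0, 0, 0, 0, 0, 0), (0, 0, 0, 0, 0, 0, 0, 0), (2, 13, 23, 17, -1, -1, -1, 1), (3, 12, 23, 17, -1, -1, -1, 1), (0, 0, 0, 0, 0, 0, 0, 0), (0, 0, 0, 0, 0, 0, 0, 0), (0, 0, 0, 0, 0, 0, 0, 0), (0, 0, 0, 0, 0, 0, 0, 0), (0, 0, 0, 0, 0, 0, 0, 0), (9, 5, 23, 17, 1, -1, -1, -1), (0, 0, 0, 0, 0, 0, 0, 0)],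
   [(1, 17, 9, 4, -1, -1, 1, -1), (0, 0, 0, 0, 0, 0, 0, 0), (0, 0, 0, 0, 0, 0, 0, 0), (0, 0, 0, 0, 0, 0, 0, 0), (0, 0, 0, 0, 0, 0, 0, 0), (0, 0, 0, 0, 0, 0, 0, 0), (0, 0, 0, 0, 0, 0, 0, 0), (0, 0, 0, 0, 0, 0, 0, 0), (0, 0, 0, 0, 0, 0, 0, 0), (0, 0, 0, 0, 0, 0, 0, 0), (1, 17, 20, 15, -1, 1, -1, -1), (1, 17, 21, 16, -1, 1, -1, -1), (2, 16, 22, 17, -1, 1, -1, -1), (3, 15, 22, 17, -1, 1, -1, -1), (0, 0, 0, 0, 0, 0, 0, 0), (0, 0, 0, 0, 0, 0, 0, 0), (0, 0, 0, 0, 0, 0, 0, 0), (0, 0, 0, 0, 0, 0, 0, 0), (0, 0, 0, 0, 0, 0, 0, 0), (0, 0, 0, 0, 0, 0, 0, 0), (0, 0, 0, 0, 0, 0, 0, 0), (0, 0, 0, 0, 0, 0, 0, 0), (0, 0, 0, 0, 0, 0, 0, 0), (14, 4, 22, 17, 1, -1, -1, -1)],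
   [(0, 0, 0, 0, 0, 0, 0, 0), (0, 0, 0, 0, 0, 0, 0, 0), (0, 19, 15, 10, 1, 1, -1, 1), (0, 19, 16, 11, 1, 1, -1, 1), (0, 0, 0, 0, 0, 0, 0, 0), (0, 0, 0, 0, 0, 0, 0, 0), (0, 0, 0, 0, 0, 0, 0, 0), (0, 0, 0, 0, 0, 0, 0, 0), (0, 0, 0, 0, 0, 0, 0, 0), (0, 19, 22, 18, 1, 1, 1, -1), (0, 0, 0, 0, 0, 0, 0, 0), (0, 0, 0, 0, 0, 0, 0, 0), (0, 0, 0, 0, 0, 0, 0, 0), (0, 0, 0, 0, 0, 0, 0, 0), (1, 18, 23, 19, 1, 1, 1, -1), (0, 0, 0, 0, 0, 0, 0, 0), (0, 0, 0, 0, 0, 0, 0, 0), (0, 0, 0, 0, 0, 0, 0, 0), (0, 0, 0, 0, 0, 0, 0, 0), (0, 0, 0, 0, 0, 0, 0, 0), (7, 11, 23, 19, -1, 1, 1, 1), (8, 10, 23, 19, -1, 1, 1, 1), (0, 0, 0, 0, 0, 0, 0, 0), (0, 0, 0, 0, 0, 0, 0, 0)],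
   [(0, 0, 0, 0, 0, 0, 0, 0), (0, 20, 14, 10, -1, -1, -1, 1), (0, 0, 0, 0, 0, 0, 0, 0), (0, 0, 0, 0, 0, 0, 0, 0), (0, 20, 17, 12, -1, -1, -1, 1), (0, 0, 0, 0, 0, 0, 0, 0), (0, 0, 0, 0, 0, 0, 0, 0), (0, 0, 0, 0, 0, 0, 0, 0), (0, 20, 21, 18, -1, -1, 1, -1), (0, 0, 0, 0, 0, 0, 0, 0), (0, 0, 0, 0, 0, 0, 0, 0), (0, 0, 0, 0, 0, 0, 0, 0), (0, 0, 0, 0, 0, 0, 0, 0), (0, 0, 0, 0, 0, 0, 0, 0), (0, 0, 0, 0, 0, 0, 0, 0), (2, 18, 23, 20, 1, -1, -1, -1), (0, 0, 0, 0, 0, 0, 0, 0), (0, 0, 0, 0, 0, 0, 0, 0), (0, 0, 0, 0, 0, 0, 0, 0), (6, 12, 23, 20, -1, -1, -1, 1), (0, 0, 0, 0, 0, 0, 0, 0), (0, 0, 0, 0, 0, 0, 0, 0), (9, 10, 23, 20, -1, -1, -1, 1), (0, 0, 0, 0, 0, 0, 0, 0)],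
   [(0, 0, 0, 0, 0, 0, 0, 0), (0, 21, 14, 11, -1, -1, -1, 1), (0, 0, 0, 0, 0, 0, 0, 0), (0, 0, 0, 0, 0, 0, 0, 0), (0, 21, 17, 13, -1, -1, -1, 1), (0, 0, 0, 0, 0, 0, 0, 0), (0, 0, 0, 0, 0, 0, 0, 0), (0, 21, 20, 18, -1, -1, 1, -1), (0, 0, 0, 0, 0, 0, 0, 0), (0, 0, 0, 0, 0, 0, 0, 0), (0, 0, 0, 0, 0, 0, 0, 0), (0, 0, 0, 0, 0, 0, 0, 0), (0, 0, 0, 0, 0, 0, 0, 0), (0, 0, 0, 0, 0, 0, 0, 0), (0, 0, 0, 0, 0, 0, 0, 0), (0, 0, 0, 0, 0, 0, 0, 0), (3, 18, 23, 21, 1, -1, -1, -1), (0, 0, 0, 0, 0, 0, 0, 0), (0, 0, 0, 0, 0, 0, 0, 0), (6, 13, 23, 21, -1, -1, -1, 1), (0, 0, 0, 0, 0, 0, 0, 0), (0, 0, 0, 0, 0, 0, 0, 0), (9, 11, 23, 21, -1, -1, -1, 1), (0, 0, 0, 0, 0, 0, 0, 0)],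
   [(0, 0, 0, 0, 0, 0, 0, 0), (0, 0, 0, 0, 0, 0, 0, 0), (0, 22, 15, 12, 1, 1, -1, 1), (0, 22, 16, 13, 1, 1, -1, 1), (0, 0, 0, 0, 0, 0, 0, 0), (0, 0, 0, 0, 0, 0, 0, 0), (0, 22, 19, 18, 1, 1, 1, -1), (0, 0, 0, 0, 0, 0, 0, 0), (0, 0, 0, 0, 0, 0, 0, 0), (0, 0, 0, 0, 0, 0, 0, 0), (0, 0, 0, 0, 0, 0, 0, 0), (0, 0, 0, 0, 0, 0, 0, 0), (0, 0, 0, 0, 0, 0, 0, 0), (0, 0, 0, 0, 0, 0, 0, 0), (0, 0, 0, 0, 0, 0, 0, 0), (0, 0, 0, 0, 0, 0, 0, 0), (0, 0, 0, 0, 0, 0, 0, 0), (4, 18, 23, 22, 1, 1, 1, -1), (0, 0, 0, 0, 0, 0, 0, 0), (0, 0, 0, 0, 0, 0, 0, 0), (7, 13, 23, 22, -1, 1, 1, 1), (8, 12, 23, 22, -1, 1, 1, 1), (0, 0, 0, 0, 0, 0, 0, 0), (0, 0, 0, 0, 0, 0, 0, 0)],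
   [(1, 20, 9, 7, 1, -1, -1, -1), (0, 0, 0, 0, 0, 0, 0, 0), (0, 0, 0, 0, 0, 0, 0, 0), (0, 0, 0, 0, 0, 0, 0, 0), (0, 0, 0, 0, 0, 0, 0, 0), (1, 20, 17, 15, 1, -1, 1, 1), (0, 0, 0, 0, 0, 0, 0, 0), (0, 0, 0, 0, 0, 0, 0, 0), (0, 0, 0, 0, 0, 0, 0, 0), (0, 0, 0, 0, 0, 0, 0, 0), (0, 0, 0, 0, 0, 0, 0, 0), (1, 20, 21, 19, 1, 1, 1, -1), (2, 19, 22, 20, 1, 1, 1, -1), (0, 0, 0, 0, 0, 0, 0, 0), (0, 0, 0, 0, 0, 0, 0, 0), (0, 0, 0, 0, 0, 0, 0, 0), (0, 0, 0, 0, 0, 0, 0, 0), (0, 0, 0, 0, 0, 0, 0, 0), (6, 15, 22, 20, 1, -1, 1, 1), (0, 0, 0, 0, 0, 0, 0, 0), (0, 0, 0, 0, 0, 0, 0, 0), (0, 0, 0, 0, 0, 0, 0, 0), (0, 0, 0, 0, 0, 0, 0, 0), (14, 7, 22, 20, -1, -1, 1, -1)],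
   [(1, 21, 9, 8, 1, -1, -1, -1), (0, 0, 0, 0, 0, 0, 0, 0), (0, 0, 0, 0, 0, 0, 0, 0), (0, 0, 0, 0, 0, 0, 0, 0), (0, 0, 0, 0, 0, 0, 0, 0), (1, 21, 17, 16, 1, -1, 1, 1), (0, 0, 0, 0, 0, 0, 0, 0), (0, 0, 0, 0, 0, 0, 0, 0), (0, 0, 0, 0, 0, 0, 0, 0), (0, 0, 0, 0, 0, 0, 0, 0), (1, 21, 20, 19, 1, 1, 1, -1), (0, 0, 0, 0, 0, 0, 0, 0), (0, 0, 0, 0, 0, 0, 0, 0), (3, 19, 22, 21, 1, 1, 1, -1), (0, 0, 0, 0, 0, 0, 0, 0), (0, 0, 0, 0, 0, 0, 0, 0), (0, 0, 0, 0, 0, 0, 0, 0), (0, 0, 0, 0, 0, 0, 0, 0), (6, 16, 22, 21, 1, -1, 1, 1), (0, 0, 0, 0, 0, 0, 0, 0), (0, 0, 0, 0, 0, 0, 0, 0), (0, 0, 0, 0, 0, 0, 0, 0), (0, 0, 0, 0, 0, 0, 0, 0), (14, 8, 22, 21, -1, -1, 1, -1)],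
   [(2, 22, 8, 9, 1, 1, -1, 1), (0, 0, 0, 0, 0, 0, 0, 0), (0, 0, 0, 0, 0, 0, 0, 0), (0, 0, 0, 0, 0, 0, 0, 0), (0, 0, 0, 0, 0, 0, 0, 0), (2, 22, 16, 17, 1, -1, 1, 1), (0, 0, 0, 0, 0, 0, 0, 0), (0, 0, 0, 0, 0, 0, 0, 0), (0, 0, 0, 0, 0, 0, 0, 0), (0, 0, 0, 0, 0, 0, 0, 0), (2, 22, 19, 20, 1, 1, 1, -1), (0, 0, 0, 0, 0, 0, 0, 0), (0, 0, 0, 0, 0, 0, 0, 0), (4, 20, 21, 22, 1, 1, 1, -1), (0, 0, 0, 0, 0, 0, 0, 0), (0, 0, 0, 0, 0, 0, 0, 0), (0, 0, 0, 0, 0, 0, 0, 0), (0, 0, 0, 0, 0, 0, 0, 0), (7, 17, 21, 22, 1, -1, 1, 1), (0, 0, 0, 0, 0, 0, 0, 0), (0, 0, 0, 0, 0, 0, 0, 0), (0, 0, 0, 0, 0, 0, 0, 0), (0, 0, 0, 0, 0, 0, 0, 0), (15, 9, 21, 22, -1, 1, 1, 1)],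
   [(3, 22, 7, 9, 1, 1, -1, 1), (0, 0, 0, 0, 0, 0, 0, 0), (0, 0, 0, 0, 0, 0, 0, 0), (0, 0, 0, 0, 0, 0, 0, 0), (0, 0, 0, 0, 0, 0, 0, 0), (3, 22, 15, 17, 1, -1, 1, 1), (0, 0, 0, 0, 0, 0, 0, 0), (0, 0, 0, 0, 0, 0, 0, 0), (0, 0, 0, 0, 0, 0, 0, 0), (0, 0, 0, 0, 0, 0, 0, 0), (0, 0, 0, 0, 0, 0, 0, 0), (3, 22, 19, 21, 1, 1, 1, -1), (4, 21, 20, 22, 1, 1, 1, -1), (0, 0, 0, 0, 0, 0, 0, 0), (0, 0, 0, 0, 0, 0, 0, 0), (0, 0, 0, 0, 0, 0, 0, 0), (0, 0, 0, 0, 0, 0, 0, 0), (0, 0, 0, 0, 0, 0, 0, 0), (8, 17, 20, 22, 1, -1, 1, 1), (0, 0, 0, 0, 0, 0, 0, 0), (0, 0, 0, 0, 0, 0, 0, 0), (0, 0, 0, 0, 0, 0, 0, 0), (0, 0, 0, 0, 0, 0, 0, 0), (16, 9, 20, 22, -1, 1, 1, 1)],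
   [(0, 0, 0, 0, 0, 0, 0, 0), (0, 0, 0, 0, 0, 0, 0, 0), (1, 23, 12, 15, 1, -1, -1, -1), (1, 23, 13, 16, 1, -1, -1, -1), (0, 0, 0, 0, 0, 0, 0, 0), (0, 0, 0, 0, 0, 0, 0, 0), (1, 23, 18, 19, 1, 1, 1, -1), (0, 0, 0, 0, 0, 0, 0, 0), (0, 0, 0, 0, 0, 0, 0, 0), (0, 0, 0, 0, 0, 0, 0, 0), (0, 0, 0, 0, 0, 0, 0, 0), (0, 0, 0, 0, 0, 0, 0, 0), (0, 0, 0, 0, 0, 0, 0, 0), (0, 0, 0, 0, 0, 0, 0, 0), (0, 0, 0, 0, 0, 0, 0, 0), (0, 0, 0, 0, 0, 0, 0, 0), (0, 0, 0, 0, 0, 0, 0, 0), (5, 19, 22, 23, 1, 1, 1, -1), (0, 0, 0, 0, 0, 0, 0, 0), (0, 0, 0, 0, 0, 0, 0, 0), (10, 16, 22, 23, -1, -1, 1, -1), (11, 15, 22, 23, -1, -1, 1, -1), (0, 0, 0, 0, 0, 0, 0, 0), (0, 0, 0, 0, 0, 0, 0, 0)],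
   [(0, 0, 0, 0, 0, 0, 0, 0), (2, 23, 11, 14, -1, -1, -1, 1), (0, 0, 0, 0, 0, 0, 0, 0), (0, 0, 0, 0, 0, 0, 0, 0), (2, 23, 13, 17, -1, -1, -1, 1), (0, 0, 0, 0, 0, 0, 0, 0), (0, 0, 0, 0, 0, 0, 0, 0), (2, 23, 18, 20, -1, 1, 1, 1), (0, 0, 0, 0, 0, 0, 0, 0), (0, 0, 0, 0, 0, 0, 0, 0), (0, 0, 0, 0, 0, 0, 0, 0), (0, 0, 0, 0, 0, 0, 0, 0), (0, 0, 0, 0, 0, 0, 0, 0), (0, 0, 0, 0, 0, 0, 0, 0), (0, 0, 0, 0, 0, 0, 0, 0), (0, 0, 0, 0, 0, 0, 0, 0), (5, 20, 21, 23, 1, 1, -1, 1), (0, 0, 0, 0, 0, 0, 0, 0), (0, 0, 0, 0, 0, 0, 0, 0), (10, 17, 21, 23, -1, -1, -1, 1), (0, 0, 0, 0, 0, 0, 0, 0), (0, 0, 0, 0, 0, 0, 0, 0), (12, 14, 21, 23, -1, -1, -1, 1), (0, 0, 0, 0, 0, 0, 0, 0)],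
   [(0, 0, 0, 0, 0, 0, 0, 0), (3, 23, 10, 14, -1, -1, -1, 1), (0, 0, 0, 0, 0, 0, 0, 0), (0, 0, 0, 0, 0, 0, 0, 0), (3, 23, 12, 17, -1, -1, -1, 1), (0, 0, 0, 0, 0, 0, 0, 0), (0, 0, 0, 0, 0, 0, 0, 0), (0, 0, 0, 0, 0, 0, 0, 0), (3, 23, 18, 21, -1, 1, 1, 1), (0, 0, 0, 0, 0, 0, 0, 0), (0, 0, 0, 0, 0, 0, 0, 0), (0, 0, 0, 0, 0, 0, 0, 0), (0, 0, 0, 0, 0, 0, 0, 0), (0, 0, 0, 0, 0, 0, 0, 0), (0, 0, 0, 0, 0, 0, 0, 0), (5, 21, 20, 23, 1, 1, -1, 1), (0, 0, 0, 0, 0, 0, 0, 0), (0, 0, 0, 0, 0, 0, 0, 0), (0, 0, 0, 0, 0, 0, 0, 0), (11, 17, 20, 23, -1, -1, -1, 1), (0, 0, 0, 0, 0, 0, 0, 0), (0, 0, 0, 0, 0, 0, 0, 0), (13, 14, 20, 23, -1, -1, -1, 1), (0, 0, 0, 0, 0, 0, 0, 0)],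
   [(0, 0, 0, 0, 0, 0, 0, 0), (0, 0, 0, 0, 0, 0, 0, 0), (4, 23, 10, 15, 1, -1, -1, -1), (4, 23, 11, 16, 1, -1, -1, -1), (0, 0, 0, 0, 0, 0, 0, 0), (0, 0, 0, 0, 0, 0, 0, 0), (0, 0, 0, 0, 0, 0, 0, 0), (0, 0, 0, 0, 0, 0, 0, 0), (0, 0, 0, 0, 0, 0, 0, 0), (4, 23, 18, 22, 1, 1, 1, -1), (0, 0, 0, 0, 0, 0, 0, 0), (0, 0, 0, 0, 0, 0, 0, 0), (0, 0, 0, 0, 0, 0, 0, 0), (0, 0, 0, 0, 0, 0, 0, 0), (5, 22, 19, 23, 1, 1, 1, -1), (0, 0, 0, 0, 0, 0, 0, 0), (0, 0, 0, 0, 0, 0, 0, 0), (0, 0, 0, 0, 0, 0, 0, 0), (0, 0, 0, 0, 0, 0, 0, 0), (0, 0, 0, 0, 0, 0, 0, 0), (12, 16, 19, 23, -1, -1, 1, -1), (13, 15, 19, 23, -1, -1, 1, -1), (0, 0, 0, 0, 0, 0, 0, 0), (0, 0, 0, 0, 0, 0, 0, 0)],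
   [(6, 22, 4, 9, -1, 1, 1, 1), (0, 0, 0, 0, 0, 0, 0, 0), (0, 0, 0, 0, 0, 0, 0, 0), (0, 0, 0, 0, 0, 0, 0, 0), (0, 0, 0, 0, 0, 0, 0, 0), (0, 0, 0, 0, 0, 0, 0, 0), (0, 0, 0, 0, 0, 0, 0, 0), (0, 0, 0, 0, 0, 0, 0, 0), (0, 0, 0, 0, 0, 0, 0, 0), (0, 0, 0, 0, 0, 0, 0, 0), (6, 22, 15, 20, -1, 1, -1, -1), (6, 22, 16, 21, -1, 1, -1, -1), (7, 21, 17, 22, -1, 1, -1, -1), (8, 20, 17, 22, -1, 1, -1, -1), (0, 0, 0, 0, 0, 0, 0, 0), (0, 0, 0, 0, 0, 0, 0, 0), (0, 0, 0, 0, 0, 0, 0, 0), (0, 0, 0, 0, 0, 0, 0, 0), (0, 0, 0, 0, 0, 0, 0, 0), (0, 0, 0, 0, 0, 0, 0, 0), (0, 0, 0, 0, 0, 0, 0, 0), (0, 0, 0, 0, 0, 0, 0, 0), (0, 0, 0, 0, 0, 0, 0, 0), (19, 9, 17, 22, 1, 1, -1, 1)],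
   [(0, 0, 0, 0, 0, 0, 0, 0), (6, 23, 5, 14, -1, 1, 1, 1), (0, 0, 0, 0, 0, 0, 0, 0), (0, 0, 0, 0, 0, 0, 0, 0), (0, 0, 0, 0, 0, 0, 0, 0), (0, 0, 0, 0, 0, 0, 0, 0), (0, 0, 0, 0, 0, 0, 0, 0), (6, 23, 12, 20, -1, -1, -1, 1), (6, 23, 13, 21, -1, -1, -1, 1), (0, 0, 0, 0, 0, 0, 0, 0), (0, 0, 0, 0, 0, 0, 0, 0), (0, 0, 0, 0, 0, 0, 0, 0), (0, 0, 0, 0, 0, 0, 0, 0), (0, 0, 0, 0, 0, 0, 0, 0), (0, 0, 0, 0, 0, 0, 0, 0), (10, 21, 17, 23, -1, -1, -1, 1), (11, 20, 17, 23, -1, -1, -1, 1), (0, 0, 0, 0, 0, 0, 0, 0), (0, 0, 0, 0, 0, 0, 0, 0), (0, 0, 0, 0, 0, 0, 0, 0), (0, 0, 0, 0, 0, 0, 0, 0), (0, 0, 0, 0, 0, 0, 0, 0), (18, 14, 17, 23, 1, 1, -1, 1), (0, 0, 0, 0, 0, 0, 0, 0)],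
   [(0, 0, 0, 0, 0, 0, 0, 0), (0, 0, 0, 0, 0, 0, 0, 0), (7, 23, 5, 15, 1, 1, 1, -1), (0, 0, 0, 0, 0, 0, 0, 0), (0, 0, 0, 0, 0, 0, 0, 0), (0, 0, 0, 0, 0, 0, 0, 0), (7, 23, 11, 19, 1, -1, -1, -1), (0, 0, 0, 0, 0, 0, 0, 0), (0, 0, 0, 0, 0, 0, 0, 0), (7, 23, 13, 22, 1, -1, -1, -1), (0, 0, 0, 0, 0, 0, 0, 0), (0, 0, 0, 0, 0, 0, 0, 0), (0, 0, 0, 0, 0, 0, 0, 0), (0, 0, 0, 0, 0, 0, 0, 0), (10, 22, 16, 23, -1, -1, 1, -1), (0, 0, 0, 0, 0, 0, 0, 0), (0, 0, 0, 0, 0, 0, 0, 0), (12, 19, 16, 23, -1, -1, 1, -1), (0, 0, 0, 0, 0, 0, 0, 0), (0, 0, 0, 0, 0, 0, 0, 0), (0, 0, 0, 0, 0, 0, 0, 0), (18, 15, 16, 23, 1, 1, 1, -1), (0, 0, 0, 0, 0, 0, 0, 0), (0, 0, 0, 0, 0, 0, 0, 0)],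
   [(0, 0, 0, 0, 0, 0, 0, 0), (0, 0, 0, 0, 0, 0, 0, 0), (0, 0, 0, 0, 0, 0, 0, 0), (8, 23, 5, 16, 1, 1, 1, -1), (0, 0, 0, 0, 0, 0, 0, 0), (0, 0, 0, 0, 0, 0, 0, 0), (8, 23, 10, 19, 1, -1, -1, -1), (0, 0, 0, 0, 0, 0, 0, 0), (0, 0, 0, 0, 0, 0, 0, 0), (8, 23, 12, 22, 1, -1, -1, -1), (0, 0, 0, 0, 0, 0, 0, 0), (0, 0, 0, 0, 0, 0, 0, 0), (0, 0, 0, 0, 0, 0, 0, 0), (0, 0, 0, 0, 0, 0, 0, 0), (11, 22, 15, 23, -1, -1, 1, -1), (0, 0, 0, 0, 0, 0, 0, 0), (0, 0, 0, 0, 0, 0, 0, 0), (13, 19, 15, 23, -1, -1, 1, -1), (0, 0, 0, 0, 0, 0, 0, 0), (0, 0, 0, 0, 0, 0, 0, 0), (18, 16, 15, 23, 1, 1, 1, -1), (0, 0, 0, 0, 0, 0, 0, 0), (0, 0, 0, 0, 0, 0, 0, 0), (0, 0, 0, 0, 0, 0, 0, 0)],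
   [(0, 0, 0, 0, 0, 0, 0, 0), (0, 0, 0, 0, 0, 0, 0, 0), (0, 0, 0, 0, 0, 0, 0, 0), (0, 0, 0, 0, 0, 0, 0, 0), (9, 23, 5, 17, -1, 1, 1, 1), (0, 0, 0, 0, 0, 0, 0, 0), (0, 0, 0, 0, 0, 0, 0, 0), (9, 23, 10, 20, -1, -1, -1, 1), (9, 23, 11, 21, -1, -1, -1, 1), (0, 0, 0, 0, 0, 0, 0, 0), (0, 0, 0, 0, 0, 0, 0, 0), (0, 0, 0, 0, 0, 0, 0, 0), (0, 0, 0, 0, 0, 0, 0, 0), (0, 0, 0, 0, 0, 0, 0, 0), (0, 0, 0, 0, 0, 0, 0, 0), (12, 21, 14, 23, -1, -1, -1, 1), (13, 20, 14, 23, -1, -1, -1, 1), (0, 0, 0, 0, 0, 0, 0, 0), (0, 0, 0, 0, 0, 0, 0, 0), (18, 17, 14, 23, 1, 1, -1, 1), (0, 0, 0, 0, 0, 0, 0, 0), (0, 0, 0, 0, 0, 0, 0, 0), (0, 0, 0, 0, 0, 0, 0, 0), (0, 0, 0, 0, 0, 0, 0, 0)],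
   [(0, 0, 0, 0, 0, 0, 0, 0), (0, 0, 0, 0, 0, 0, 0, 0), (0, 0, 0, 0, 0, 0, 0, 0), (0, 0, 0, 0, 0, 0, 0, 0), (0, 0, 0, 0, 0, 0, 0, 0), (14, 22, 4, 17, -1, 1, 1, 1), (0, 0, 0, 0, 0, 0, 0, 0), (0, 0, 0, 0, 0, 0, 0, 0), (0, 0, 0, 0, 0, 0, 0, 0), (0, 0, 0, 0, 0, 0, 0, 0), (14, 22, 7, 20, -1, -1, 1, -1), (14, 22, 8, 21, -1, -1, 1, -1), (15, 21, 9, 22, 1, -1, -1, -1), (16, 20, 9, 22, 1, -1, -1, -1), (0, 0, 0, 0, 0, 0, 0, 0), (0, 0, 0, 0, 0, 0, 0, 0), (0, 0, 0, 0, 0, 0, 0, 0), (0, 0, 0, 0, 0, 0, 0, 0), (19, 17, 9, 22, 1, 1, -1, 1), (0, 0, 0, 0, 0, 0, 0, 0), (0, 0, 0, 0, 0, 0, 0, 0), (0, 0, 0, 0, 0, 0, 0, 0), (0, 0, 0, 0, 0, 0, 0, 0), (0, 0, 0, 0, 0, 0, 0, 0)]]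

set_option maxRecDepth 1000000 in
set_option maxHeartbeats 0 in
theorem checkPairs_D4 : checkPairs chevD4 tabD4 goodD4 orthD4 = true := by decide +kernel

/-- the certificate `(a, b, ε)` of `CommData1` per root of `D₄` -/
def cdD4 : List (ℕ × ℕ × ℤ) :=
  [(1, 9, 1), (0, 14, 1), (0, 15, -1), (0, 16, -1), (0, 17, 1), (1, 17, 1), (0, 19, -1), (0, 20, 1), (0, 21, 1), (0, 22, -1), (1, 20, -1), (1, 21, -1), (2, 22, -1), (3, 22, -1), (1, 23, -1), (2, 23, 1), (3, 23, 1), (4, 23, -1), (6, 22, 1), (6, 23, 1), (7, 23, -1), (8, 23, -1), (9, 23, 1), (14, 22, 1)]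

set_option maxRecDepth 1000000 in
theorem checkCD_D4 : Helper20.checkCD1 chevD4 cdD4 = true := by decide +kernel

/-- the Part A table of type `D₄` -/
theorem commData1_D4 {r : ℕ} (hr : r < chevD4.nroots) :
    (∃ m : ℕ → ℤ, wt chevD4 m r = 1) ∧ CommData1 chevD4 r := by
  refine ⟨?_, Helper20.checkCD1_spec checkCD_D4 hr⟩
  refine Cfsg.Agent.Lib.Helper14.StCC.A.Helper27.exists_wt_one (by simp) hr ?_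
  intro h
  exact absurd (congrArg ChevalleyDatum.nroots h) (by decide)

/-- the pair table of type `D₄` -/
theorem pair_D4 {r s : ℕ} (hr : r < chevD4.nroots) (hs : s < chevD4.nroots) (h1 : s ≠ r)
    (h2 : s ≠ chevD4.neg r) : GoodP chevD4 r s ∨ OrthCert chevD4 r s :=
  checkPairs_spec checkTab_D4 checkPairs_D4 hr hs h1 h2

end Cfsg.Agent.Lib.Helper14.StCC.Orth
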