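import Cfsg.Agent.Lib.Helper14.StCC.SectionCore
import Cfsg.Agent.Lib.Helper26.StCCPartA
import Cfsg.Agent.Lib.Helper16.StCCPartB
import Cfsg.Agent.S2395

set_option autoImplicit false

/-! Steinberg's Theorem 10, part C: every central extension of the group presented by (R1), (R2)
splits when `|K| > 4` (all seven types). -/

namespace Cfsg.Agent.Lib.Helper14.StCC

open Cfsg.Lie Cfsg.Agent.Lib.Helper8.Chev

variable {D : ChevalleyDatum} {K : Type*} [Field K] {E : Type*} [Group E]

/-- every central extension of the group presented by (R1), (R2) splits -/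
theorem exists_section (hD : D ∈ [chevG2, chevB2, chevD4, chevF4, chevE6, chevE7, chevE8])
    (hK5 : ∃ s : Finset K, 4 < s.card) (ψ : E →* D.SteinbergCover K)
    (hψ : Function.Surjective ψ) (hc : ψ.ker ≤ Subgroup.center E) :
    ∃ τ : D.SteinbergCover K →* E, ψ.comp τ = MonoidHom.id _ := by
  have hperf : commutator (D.SteinbergCover K) = ⊤ :=
    Cfsg.Agent.S2395.result D hD (fun _ => hK2_of_hK5 hK5)
  obtain ⟨L⟩ := exists_rootLift
    (scRepOf hD (scHom hD K) (fun r t hr => scHom_scGen hD r t hr)) hK5 hperf ψ hψ hc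
  exact exists_section_of hD ψ L (RootLift.comm _ hK5 ψ hψ hc L)

end Cfsg.Agent.Lib.Helper14.StCC
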