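import Cfsg.Agent.Lib.Helper14.StCC.OrthD4
import Cfsg.Agent.S2395

set_option autoImplicit false

/-! Steinberg's Theorem 10 for type `D₄` over EVERY field with at least three elements: every
central extension of the group presented by (R1), (R2) splits.  (Piece of S2400; covers `D₄(3)` and
`D₄(4)`, which the `|K| > 4` proof misses.) -/

namespace Cfsg.Agent.Lib.Helper14.StCC

open Cfsg.Lie Cfsg.Agent.Lib.Helper8.Chev

/-- every central extension of the group of type `D₄` presented by (R1), (R2) over a field with at
least three elements splits -/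
theorem exists_section_D4 {K : Type*} [Field K] {E : Type*} [Group E]
    (hK3 : ∃ c : K, c ≠ 0 ∧ c ≠ 1) (ψ : E →* chevD4.SteinbergCover K)
    (hψ : Function.Surjective ψ) (hc : ψ.ker ≤ Subgroup.center E) :
    ∃ τ : chevD4.SteinbergCover K →* E, ψ.comp τ = MonoidHom.id _ := by
  have hD : chevD4 ∈ [chevG2, chevB2, chevD4, chevF4, chevE6, chevE7, chevE8] := by simp
  have hperf : commutator (chevD4.SteinbergCover K) = ⊤ :=
    Cfsg.Agent.S2395.result chevD4 hD (fun h => by
      exfalso
      simp only [List.mem_cons, List.not_mem_nil, or_false] at h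
      rcases h with h | h
      · exact absurd (congrArg ChevalleyDatum.nroots h) (by decide)
      · exact absurd (congrArg ChevalleyDatum.nroots h) (by decide))
  exact Orth.exists_section_orth hD hK3 hperf (fun r hr => Orth.commData1_D4 hr)
    (fun r s hr hs h1 h2 => Orth.pair_D4 hr hs h1 h2) ψ hψ hc

end Cfsg.Agent.Lib.Helper14.StCC
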