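import Cfsg.Agent.Lib.Helper16.StCCB.Defs

set_option autoImplicit false

/-! Steinberg's Theorem 10 over the field with two elements for the types `E₆`, `E₇`, `E₈`
(architect helper14): shared definitions.

Over `F₂` there is no torus.  The lift of `x_q(1)` is the canonical element
`z_(a,b) = (Ã B̃)⁻¹ (B̃ Ã)` for a chosen decomposition `q = a + b` (any lifts `Ã`, `B̃` of `x_a(1)`,
`x_b(1)`).  Table facts: (nil) if `x_r`, `x_s` commute then `s = a + b` with `x_a`, `x_b` commuting
with `x_r`, hence ANY lifts of `x_r(t)`, `x_s(u)` commute; (cert) for every pair `(r, s)` with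
`r + s = q` the element `z_(r,s)` equals `z_(a,b)` for the chosen `(a, b)`: by one "associativity"
computation along a chain `r — c — b` of type `A₃`. -/

namespace Cfsg.Agent.Lib.Helper14.StCC.Two

open Cfsg.Lie Cfsg.Agent.Lib.Helper14.StCC.B

/-- `(a, b)` is an admissible ordered pair whose commutator formula is the single term `(q, ±1, 1, 1)` -/
def OneP1 (D : ChevalleyDatum) (a b q : ℕ) : Prop :=
  ∃ N : ℤ, (N = 1 ∨ N = -1) ∧ OneP D a b q N

/-- `s = a + b` (single term, coefficient `±1`) with `x_a`, `x_b` commuting with `x_r` -/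
def DecP1 (D : ChevalleyDatum) (r s : ℕ) : Prop :=
  ∃ a b : ℕ, OneP1 D a b s ∧ NilP D r a ∧ NilP D r b

/-- the chosen decomposition `q = ab.1 + ab.2`, both summands commuting with `q` -/
def DecData (D : ChevalleyDatum) (q : ℕ) (ab : ℕ × ℕ) : Prop :=
  OneP1 D ab.1 ab.2 q ∧ NilP D q ab.1 ∧ NilP D q ab.2

/-- a chain `r — c — b` of type `A₃`: `a = r + c`, `s = c + b`, `q = a + b = r + s` -/
def ChainP (D : ChevalleyDatum) (r c b a s q : ℕ) : Prop :=
  OneP1 D r c a ∧ OneP1 D c b s ∧ OneP1 D a b q ∧ OneP1 D r s q ∧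
  NilP D r b ∧ NilP D a s ∧ NilP D q s

/-- the pair `(r, s)` with `r + s = q` gives the same lift of `x_q(1)` as the chosen pair `ab` -/
def CertP (D : ChevalleyDatum) (r s q : ℕ) (ab : ℕ × ℕ) : Prop :=
  ab = (r, s) ∨ ab = (s, r) ∨ (∃ c : ℕ, ChainP D r c ab.2 ab.1 s q) ∨
    (∃ c : ℕ, ChainP D ab.2 c s r ab.1 q)

/-- all the table facts used over the field with two elements -/
structure TwoData (D : ChevalleyDatum) (dec : ℕ → ℕ × ℕ) : Prop where
  shape : ∀ r < D.nroots, ∀ s < D.nroots, s ≠ r → s ≠ D.neg r →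
    D.commTerms r s = [] ∨ ∃ q : ℕ, OneP1 D r s q
  nil : ∀ r s : ℕ, NilP D r s → DecP1 D r s
  decd : ∀ q < D.nroots, DecData D q (dec q)
  cert : ∀ r s q : ℕ, OneP1 D r s q → CertP D r s q (dec q)

end Cfsg.Agent.Lib.Helper14.StCC.Two
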